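import Groth.Agent.EtFLC.Filtration
import Groth.Agent.Et18.KPiFinite
import Groth.Agent.Et18.FLC
import Groth.Agent.EtASLib.Basic
import Groth.Agent.CdDev9.Push
import Groth.Agent.Et18.HpullComp

/-!
# Vanishing above degree one of p-power torsion on affine schemes of characteristic p, on a cover
-/

set_option autoImplicit false
set_option linter.all false
set_option backward.isDefEq.respectTransparency.types false
set_option backward.isDefEq.respectTransparency false
set_option synthInstance.maxHeartbeats 400000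
set_option maxHeartbeats 1000000

universe u

open CategoryTheory CategoryTheory.Limits CategoryTheory.Abelian AlgebraicGeometry Opposite
open Groth.Agent Groth.Agent.Et18

namespace Groth.Agent.KPiAS10

variable {X : Scheme.{u}}

theorem natCast_zero {T : Scheme.{u}} (f : T ⟶ X) {p : ℕ} (h0 : (p : Γ(X, ⊤)) = 0) : (p : Γ(T, ⊤)) = 0 := by
  rw [← map_natCast f.appTop.hom, h0, map_zero]

theorem vanish_middle {T : Scheme.{u}} {S : ShortComplex (EtCoh.Ab T)} (hS : S.ShortExact) (q : ℕ)
    (h1 : Subsingleton (EtCoh.H T S.X₁ q)) (h3 : Subsingleton (EtCoh.H T S.X₃ q)) :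
    Subsingleton (EtCoh.H T S.X₂ q) := by
  refine subsingleton_of_forall_eq 0 fun x => ?_
  obtain ⟨y, hy⟩ := Ext.covariant_sequence_exact₂ _ hS x (h3.elim _ _)
  rw [← hy, h1.elim y 0, Ext.zero_comp]

theorem filt_vanish {p : ℕ} [Fact p.Prime] {T : Scheme.{u}} {G : EtCoh.Ab T} (hG : EtFLC.Filt p G) :
    ∀ (T' : Scheme.{u}) [IsAffine T'] (g : T' ⟶ T), (p : Γ(T', ⊤)) = 0 →
      ∀ q : ℕ, 2 ≤ q → Subsingleton (EtCoh.H T' ((EtCoh.pull g).obj G) q) := by
  induction hG with
  | @zero F hz =>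
    intro T' _ g _ q _
    exact subsingleton_of_forall_eq 0 fun x => by
      rw [← Ext.comp_mk₀_id x, show 𝟙 ((EtCoh.pull g).obj F) = 0 from (Functor.map_isZero (EtCoh.pull g) hz).eq_of_src _ _,
        Ext.mk₀_zero, Ext.comp_zero]
  | @step F' F i _ _ hc ih =>
    intro T' _ g h0 q hq
    have hS := EtFLC.pull_shortExact g (EtFLC.shortExact_cokernel i)
    refine vanish_middle hS q (ih T' g h0 q hq) ?_
    obtain ⟨n, rfl⟩ : ∃ n, q = n + 2 := ⟨q - 2, by omega⟩
    exact CdDev9.subsingleton_H_of_iso ((EtCore.pullConst g (ZMod p)).symm ≪≫ ((EtCoh.pull g).mapIso hc.some.symm))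
      (n + 2) (EtASLib.subsingleton_H_const p h0 n)

/-- A finite étale cover on whose finite étale covers `F` has no cohomology above degree one. -/
def Good (F : EtCoh.Ab X) : Prop :=
  ∃ (T : Scheme.{u}) (f : T ⟶ X) (_ : IsFinite f) (_ : Etale f) (_ : Surjective f),
    ∀ (T' : Scheme.{u}) (g : T' ⟶ T) [IsFinite g] [Etale g] (h : T' ⟶ X), g ≫ f = h →
      ∀ q : ℕ, 2 ≤ q → Subsingleton (EtCoh.H T' ((EtCoh.pull h).obj F) q)

theorem good_extension {S : ShortComplex (EtCoh.Ab X)} (hS : S.ShortExact) (h₁ : Good S.X₁) (h₃ : Good S.X₃) :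
    Good S.X₂ := by
  obtain ⟨T₁, f₁, _, _, _, H₁⟩ := h₁
  obtain ⟨T₂, f₂, _, _, _, H₂⟩ := h₃
  refine ⟨pullback f₁ f₂, pullback.fst f₁ f₂ ≫ f₁, inferInstance, inferInstance, inferInstance, ?_⟩
  intro T' g _ _ h hh q hq
  refine vanish_middle (EtFLC.pull_shortExact h hS) q
    (H₁ T' (g ≫ pullback.fst f₁ f₂) h (by rw [Category.assoc]; exact hh) q hq)
    (H₂ T' (g ≫ pullback.snd f₁ f₂) h (by rw [Category.assoc, ← pullback.condition]; exact hh) q hq)

theorem good_killed [IsAffine X] [ConnectedSpace X] {p : ℕ} [hp : Fact p.Prime] (h0 : (p : Γ(X, ⊤)) = 0)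
    (F : EtCoh.Ab X) (hF : EtCoh.IsFiniteLocallyConstant F) (hk : EtCoh.KilledBy p F) : Good F := by
  obtain ⟨T, f, hf, he, d, hd, hcard, hfilt⟩ := EtFLC.exists_filtration X F hF hk
  have hd0 : d ≠ 0 := fun hd0 => by
    rw [hd0, Nat.coprime_zero_right] at hd
    exact hp.out.one_lt.ne' hd
  haveI : Surjective f := ⟨fun x => by
    have hne : Nonempty (FibrePts f (sepPoint X x)) :=
      (Nat.card_ne_zero.1 (by rw [hcard]; exact hd0)).1
    obtain ⟨ξ, hξ⟩ := hne.some
    exact ⟨ξ default, by rw [← Scheme.Hom.comp_apply, hξ]; exact sepPoint_default X x⟩⟩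
  haveI : IsAffine T := isAffine_of_isAffineHom f
  refine ⟨T, f, hf, he, inferInstance, fun T' g _ _ h hh q hq => ?_⟩
  subst hh
  haveI : IsAffine T' := isAffine_of_isAffineHom g
  exact CdDev9.subsingleton_H_of_iso ((EtCore.pullComp g f).app F).symm q
    (filt_vanish hfilt T' g (natCast_zero (g ≫ f) h0) q hq)

theorem good_pow [IsAffine X] [ConnectedSpace X] {p : ℕ} [hp : Fact p.Prime] (h0 : (p : Γ(X, ⊤)) = 0) :
    ∀ (h : ℕ) (F : EtCoh.Ab X), EtCoh.IsFiniteLocallyConstant F → EtCoh.KilledBy (p ^ h) F → Good F := by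
  intro h
  induction h with
  | zero =>
    intro F _ hk
    have hz : IsZero F := (IsZero.iff_id_eq_zero F).2 (by
      have := nsmul_id_of_killedBy hk
      rwa [pow_zero, one_nsmul] at this)
    refine ⟨X, 𝟙 X, inferInstance, inferInstance, inferInstance, fun T' g _ _ k _ q _ => ?_⟩
    exact subsingleton_of_forall_eq 0 fun x => by
      rw [← Ext.comp_mk₀_id x, show 𝟙 ((EtCoh.pull k).obj F) = 0 from (Functor.map_isZero (EtCoh.pull k) hz).eq_of_src _ _,
        Ext.mk₀_zero, Ext.comp_zero]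
  | succ h ih =>
    intro F hF hk
    let m : F ⟶ F := p • 𝟙 F
    let S := ShortComplex.mk (kernel.ι m) (cokernel.π (kernel.ι m)) (cokernel.condition _)
    have hS : S.ShortExact := EtFLC.shortExact_cokernel (kernel.ι m)
    have hK := (isFLC_kernel_cokernel m hF hF).1
    have hQ := (isFLC_kernel_cokernel (kernel.ι m) hK hF).2
    refine good_extension hS (good_killed h0 _ hK (KPiFinite.killedBy_of_nsmul_id ?_))
      (ih _ hQ (KPiFinite.killedBy_of_nsmul_id ?_))
    · rw [← cancel_mono (kernel.ι m), zero_comp, Preadditive.nsmul_comp, Category.id_comp]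
      have := kernel.condition m
      simpa [m, Preadditive.comp_nsmul] using this
    · rw [← cancel_epi (cokernel.π (kernel.ι m)), comp_zero, Preadditive.comp_nsmul, Category.comp_id]
      have hz : (p ^ h • 𝟙 F) ≫ m = 0 := by
        simp only [m, Preadditive.comp_nsmul, Category.comp_id, ← mul_nsmul', ← pow_succ']
        exact nsmul_id_of_killedBy hk
      have e : p ^ h • cokernel.π (kernel.ι m) = (p ^ h • 𝟙 F) ≫ cokernel.π (kernel.ι m) := by
        rw [Preadditive.nsmul_comp, Category.id_comp]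
      rw [e, ← kernel.lift_ι m _ hz, Category.assoc, cokernel.condition, comp_zero]

end Groth.Agent.KPiAS10
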